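import Mathlib
import Cfsg.Agent.SmallSimple.TheoremBCor
import Cfsg.Agent.SmallSimple.BrauerTypesBasic
import Cfsg.Agent.SolvableStructure.Supersolvable
import Cfsg.Agent.Blocks.CyclicClasses
import Cfsg.Agent.Blocks.Central
import Cfsg.Agent.H674.Codegree
set_option linter.all false

-- part: H607/BP/Arith
section
/-!
Arithmetic for groups with a self-centralizing Sylow `p`-subgroup of order `p` and
`1 + n p` Sylow `p`-subgroups, `n` not of the form `(h u p + u ^ 2 + u + h) / (u + 1)` (Brauer 1943);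
adapted from `SmallSimple.BrauerTypesArith`.
-/

set_option autoImplicit false

namespace Cfsg.Agent.H607.BP.Arith

/-- The hypothesis on `n`: it is not of the form `(h u p + u ^ 2 + u + h) / (u + 1)`. -/
def NoForm (p n : ℕ) : Prop :=
  ∀ h u : ℕ, 0 < h → 0 < u → n * (u + 1) ≠ h * u * p + u ^ 2 + u + h

/-- The divisor lemma: a divisor `D ≡ 1 (mod p)` of `(p - 1)(1 + n p)`. -/
theorem master {p n D s : ℕ} (hp : 2 ≤ p) (hn : NoForm p n) (hD : D % p = 1)
    (h : D * s = (p - 1) * (1 + n * p)) : D = 1 ∨ D = 1 + n * p := by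
  obtain ⟨q, rfl⟩ : ∃ q, p = q + 1 := ⟨p - 1, by omega⟩
  have hq : 1 ≤ q := by omega
  have hqq : q + 1 - 1 = q := by omega
  rw [hqq] at h
  obtain ⟨u, hu⟩ : ∃ u, D = u * (q + 1) + 1 := by
    refine ⟨D / (q + 1), ?_⟩
    have := Nat.mod_add_div D (q + 1)
    rw [hD] at this
    rw [Nat.mul_comm (D / (q + 1)) (q + 1)]
    omega
  -- s + 1 is divisible by p
  have hs : (q + 1) ∣ (s + 1) := by
    have h1 : ((q + 1 : ℕ) : ℤ) ∣ ((s + 1 : ℕ) : ℤ) := by
      have h2 : (D : ℤ) * s = q * (1 + n * (q + 1)) := by exact_mod_cast h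
      have h3 : (D : ℤ) = u * (q + 1) + 1 := by exact_mod_cast hu
      rw [h3] at h2
      refine ⟨1 + q * n - u * s, ?_⟩
      push_cast
      linarith
    exact_mod_cast h1
  obtain ⟨v, hv⟩ := hs
  have hv0 : 1 ≤ v := by
    rcases Nat.eq_zero_or_pos v with h0 | h0
    · rw [h0] at hv; omega
    · exact h0
  -- main identity in ℤ
  have hmain : (q : ℤ) * (n - u * v) = (u + 1) * (v - 1) := by
    have h2 : (D : ℤ) * s = q * (1 + n * (q + 1)) := by exact_mod_cast h
    have h3 : (D : ℤ) = u * (q + 1) + 1 := by exact_mod_cast hu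
    have h4 : (s : ℤ) = (q + 1) * v - 1 := by
      have : ((s + 1 : ℕ) : ℤ) = (((q + 1) * v : ℕ) : ℤ) := by exact_mod_cast hv
      push_cast at this
      linarith
    rw [h3, h4] at h2
    have h5 : ((q : ℤ) + 1) * ((q : ℤ) * (n - u * v) - (u + 1) * (v - 1)) = 0 := by
      linarith [h2]
    have h6 : ((q : ℤ) + 1) ≠ 0 := by positivity
    have h7 := (mul_eq_zero.mp h5).resolve_left h6
    linarith
  rcases Nat.eq_zero_or_pos u with h0 | hu1
  · left; rw [hu, h0]; omega
  right
  rcases Nat.lt_or_ge 1 v with hv2 | hv2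
  · exfalso
    have hpos : 0 < (q : ℤ) * (n - u * v) := by
      rw [hmain]
      have : (1 : ℤ) < v := by exact_mod_cast hv2
      have h1 : (0 : ℤ) < (v : ℤ) - 1 := by linarith
      positivity
    have hh : 0 < (n : ℤ) - u * v := by
      have hq0 : (0 : ℤ) < q := by exact_mod_cast hq
      exact (pos_iff_pos_of_mul_pos hpos).mp hq0
    have hu1' : (1 : ℤ) ≤ u := by exact_mod_cast hu1
    have hv2' : (1 : ℤ) ≤ (v : ℤ) - 1 := by
      have : (2 : ℤ) ≤ v := by exact_mod_cast hv2
      linarith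
    obtain ⟨h, hh'⟩ : ∃ h : ℕ, (h : ℤ) = (n : ℤ) - u * v :=
      ⟨((n : ℤ) - u * v).toNat, Int.toNat_of_nonneg hh.le⟩
    have hh1 : 0 < h := by
      have : (0 : ℤ) < h := hh' ▸ hh
      exact_mod_cast this
    refine hn h u hh1 hu1 ?_
    have e1 : (n : ℤ) = u * v + h := by rw [hh']; ring
    have e2 : (q : ℤ) * h = (u + 1) * (v - 1) := by rw [hh']; exact hmain
    have e3 : (n : ℤ) * (u + 1) = h * u * (q + 1) + u ^ 2 + u + h := by
      rw [e1]
      linear_combination (-(u : ℤ)) * e2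
    exact_mod_cast e3
  · have hv1 : v = 1 := by omega
    subst hv1
    have h1 : (q : ℤ) * (n - u) = 0 := by
      have := hmain
      push_cast at this
      linarith [this]
    have hq0 : (q : ℤ) ≠ 0 := by
      have : (1 : ℤ) ≤ q := by exact_mod_cast hq
      linarith
    have h2 := (mul_eq_zero.mp h1).resolve_left hq0
    have h3 : (n : ℤ) = u := by linarith
    have h4 : n = u := by exact_mod_cast h3
    rw [hu, h4]; ring

variable {p n e t : ℕ}

/-- Degrees `≡ 1 (mod p)`. -/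
theorem deg_pos {d : ℕ} (hp : 2 ≤ p) (hn : NoForm p n) (het : e * t = p - 1)
    (hd : d % p = 1) (hdvd : d ∣ e * (1 + n * p)) : d = 1 ∨ d = 1 + n * p := by
  obtain ⟨s, hs⟩ := hdvd
  refine master (s := s * t) hp hn hd ?_
  rw [← mul_assoc, ← hs, ← het]; ring

theorem mod_of_mul {a b : ℕ} (hp : 2 ≤ p) (ha : (a + 1) % p = 0) (hab : (a * b + 1) % p = 0) :
    b % p = 1 := by
  have h1 : p ∣ a + 1 := Nat.dvd_of_mod_eq_zero ha
  have h2 : p ∣ a * b + 1 := Nat.dvd_of_mod_eq_zero hab
  have h3 : (p : ℤ) ∣ (b : ℤ) - 1 := by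
    have h1' : (p : ℤ) ∣ (a : ℤ) + 1 := by exact_mod_cast h1
    have h2' : (p : ℤ) ∣ (a : ℤ) * b + 1 := by exact_mod_cast h2
    have : (b : ℤ) - 1 = ((a : ℤ) + 1) * b - ((a : ℤ) * b + 1) := by ring
    rw [this]
    exact dvd_sub (h1'.mul_right _) h2'
  have h4 : (b : ℤ) % p = 1 % p :=
    Int.emod_eq_emod_iff_emod_sub_eq_zero.mpr (Int.emod_eq_zero_of_dvd h3)
  have h5 : (1 : ℤ) % p = 1 := Int.emod_eq_of_lt (by norm_num) (by exact_mod_cast hp)
  rw [h5] at h4
  exact_mod_cast h4

theorem prod_mod (hp : 2 ≤ p) : ((p - 1) * (1 + n * p) + 1) % p = 0 := by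
  obtain ⟨q, rfl⟩ : ∃ q, p = q + 1 := ⟨p - 1, by omega⟩
  have : q + 1 - 1 = q := by omega
  rw [this]
  have h : q * (1 + n * (q + 1)) + 1 = (q + 1) * (1 + q * n) := by ring
  rw [h]
  exact Nat.mul_mod_right _ _

theorem not_big (hp : 2 ≤ p) (hn1 : 1 ≤ n) (he : 1 ≤ e)
    (hsq : (e * (1 + n * p)) * (e * (1 + n * p)) ≤ p * e * (1 + n * p)) : False := by
  have h1 : 0 < e * (1 + n * p) := by positivity
  have h2 : e * (1 + n * p) ≤ p := by
    apply Nat.le_of_mul_le_mul_right _ h1
    calc (e * (1 + n * p)) * (e * (1 + n * p)) ≤ p * e * (1 + n * p) := hsq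
      _ = p * (e * (1 + n * p)) := by ring
  have h3 : p < 1 + n * p := by nlinarith
  have h4 : 1 + n * p ≤ e * (1 + n * p) := Nat.le_mul_of_pos_left _ he
  omega

/-- Degrees `≡ -1 (mod p)`. -/
theorem deg_neg {d : ℕ} (hp : 2 ≤ p) (hn : NoForm p n) (hn1 : 1 ≤ n) (he : 1 ≤ e)
    (het : e * t = p - 1)
    (hd : (d + 1) % p = 0) (hdvd : d ∣ e * (1 + n * p)) (hsq : d * d ≤ p * e * (1 + n * p)) :
    d = p - 1 := by
  obtain ⟨s, hs⟩ := hdvd
  have hprod : d * (s * t) = (p - 1) * (1 + n * p) := by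
    rw [← mul_assoc, ← hs, ← het]; ring
  have hmod : (s * t) % p = 1 := by
    apply mod_of_mul hp hd
    rw [hprod]
    exact prod_mod hp
  rcases master (D := s * t) (s := d) hp hn hmod (by rw [mul_comm, hprod]) with h | h
  · exfalso
    have hs1 : s = 1 := Nat.eq_one_of_mul_eq_one_right h
    rw [hs1, mul_one] at hs
    rw [← hs] at hsq
    exact not_big hp hn1 he hsq
  · rw [h] at hprod
    have h1 : 0 < 1 + n * p := by positivity
    exact Nat.eq_of_mul_eq_mul_right h1 hprod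

/-- Exceptional degree, positive sign. -/
theorem exc_pos {c m : ℕ} (hp : 2 ≤ p) (hn : NoForm p n) (hn1 : 1 ≤ n) (he : 1 ≤ e)
    (het : e * t = p - 1)
    (hc : c = p * m + e) (hdvd : c ∣ e * (1 + n * p)) (hsq : c * c ≤ p * e * (1 + n * p)) :
    c = e ∧ m = 0 := by
  obtain ⟨s, hs⟩ := hdvd
  have hprod : (c * t) * s = (p - 1) * (1 + n * p) := by
    rw [← het]
    calc (c * t) * s = (c * s) * t := by ring
      _ = (e * (1 + n * p)) * t := by rw [← hs]
      _ = _ := by ring
  have hct : (c * t + 1) % p = 0 := by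
    rw [hc]
    have : (p * m + e) * t + 1 = p * (m * t + 1) := by
      have : e * t + 1 = p := by omega
      calc (p * m + e) * t + 1 = p * m * t + (e * t + 1) := by ring
        _ = p * m * t + p := by rw [this]
        _ = _ := by ring
    rw [this]; exact Nat.mul_mod_right _ _
  have hmod : s % p = 1 := by
    apply mod_of_mul hp hct
    rw [hprod]
    exact prod_mod hp
  rcases master (D := s) (s := c * t) hp hn hmod (by rw [mul_comm, hprod]) with h | h
  · exfalso
    rw [h, mul_one] at hs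
    rw [← hs] at hsq
    exact not_big hp hn1 he hsq
  · rw [h] at hs
    have h1 : 0 < 1 + n * p := by positivity
    have h2 := Nat.eq_of_mul_eq_mul_right h1 hs
    refine ⟨h2.symm, ?_⟩
    have h3 : p * m = 0 := by omega
    rcases Nat.mul_eq_zero.mp h3 with h4 | h4
    · omega
    · exact h4

/-- Exceptional degree, negative sign. -/
theorem exc_neg {c m : ℕ} (hp : 2 ≤ p) (hn : NoForm p n)
    (het : e * t = p - 1) (hc1 : c ≠ 1)
    (hc : c + e = p * m) (hdvd : c ∣ e * (1 + n * p)) :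
    c * t = 1 + n * p ∧ m * t = n + 1 := by
  obtain ⟨s, hs⟩ := hdvd
  have hprod : (c * t) * s = (p - 1) * (1 + n * p) := by
    rw [← het]
    calc (c * t) * s = (c * s) * t := by ring
      _ = (e * (1 + n * p)) * t := by rw [← hs]
      _ = _ := by ring
  have hct0 : c * t + p = p * (m * t) + 1 := by
    have h1 : (c + e) * t = p * m * t := by rw [hc]
    have h2 : c * t + e * t = p * (m * t) := by rw [← add_mul, h1]; ring
    omega
  have hct : (c * t) % p = 1 := by
    have h1 : (c * t + p) % p = (p * (m * t) + 1) % p := by rw [hct0]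
    rw [Nat.add_mod_right, Nat.mul_add_mod] at h1
    rw [h1]
    exact Nat.mod_eq_of_lt (by omega)
  rcases master (D := c * t) (s := s) hp hn hct hprod with h | h
  · exfalso
    exact hc1 (Nat.eq_one_of_mul_eq_one_right h)
  · refine ⟨h, ?_⟩
    rw [h] at hct0
    have h1 : p * (m * t) = p * (n + 1) := by
      have : 1 + n * p + p = p * (n + 1) + 1 := by ring
      omega
    exact Nat.eq_of_mul_eq_mul_left (by omega) h1


end Cfsg.Agent.H607.BP.Arith
end

-- part: H607/BP/NonSelf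
section
/-!
Perfect groups with `O_{p'} = 1`, Sylow `p`-subgroups of order `p` and `NoForm p n`:
the Sylow `p`-subgroups are self-centralizing.
-/

set_option autoImplicit false
open Cfsg
open scoped ComplexConjugate

namespace Cfsg.Agent.H607.BP.NonSelf

open Subgroup
open Cfsg.Agent.Characters.Core
open Cfsg.Agent.SmallSimple
open Cfsg.Agent.SmallSimple.BrauerTypesBasic
open Cfsg.Agent.H607.BP.Arith

universe u

variable {G : Type u} [Group G] [Finite G] {p : ℕ} [hp : Fact p.Prime]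

/-- A perfect group with cyclic Sylow `p`-subgroup: `N(P) ≠ C(P)`. -/
theorem not_le (hperf : commutator G = ⊤) (P : Sylow p G) (hP : Nat.card P = p) :
    ¬ normalizer (P : Set G) ≤ centralizer (P : Set G) := by
  intro h1
  have : IsCyclic (P : Subgroup G) := isCyclic_of_prime_card hP
  have h2 := MonoidHom.ker_transferSylow_isComplement' P h1
  have h3 : commutator G ≤ (MonoidHom.transferSylow P h1).ker := by
    have hcommP : ∀ a b : P, a * b = b * a := by
      have : IsMulCommutative (P : Subgroup G) := inferInstance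
      intro a b
      exact mul_comm' a b
    rw [_root_.commutator_def, commutator_le]
    intro a _ b _
    rw [MonoidHom.mem_ker, commutatorElement_def]
    simp only [map_mul, map_inv]
    rw [hcommP (MonoidHom.transferSylow P h1 a) (MonoidHom.transferSylow P h1 b)]
    group
  rw [hperf, top_le_iff] at h3
  rw [h3] at h2
  have h4 : (P : Subgroup G) = ⊥ := by
    have := h2.disjoint
    rwa [top_disjoint] at this
  have h5 : Nat.card (P : Subgroup G) = 1 := by rw [h4, Subgroup.card_bot]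
  have h6 : Nat.card (P : Subgroup G) = p := hP
  have := hp.out.one_lt
  omega

/-- In a perfect group a subgroup of prime order which is normal is central. -/
theorem not_normal (hperf : commutator G = ⊤) (P : Sylow p G) (hP : Nat.card P = p) :
    normalizer (P : Set G) ≠ ⊤ := by
  intro h
  have : IsCyclic (P : Subgroup G) := isCyclic_of_prime_card hP
  have hn : (P : Subgroup G).Normal := normalizer_eq_top_iff.1 h
  have h1 := Cfsg.Agent.SolvableStructure.Supersolvable.commutator_le_centralizer_of_isCyclic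
    (P : Subgroup G)
  rw [hperf] at h1
  exact not_le hperf P hP (le_trans le_top h1)

theorem index_cent (P : Sylow p G) {e n : ℕ}
    (he : (centralizer (P : Set G)).relIndex (normalizer (P : Set G)) = e)
    (hn : Nat.card (Sylow p G) = 1 + n * p) :
    (centralizer (P : Set G)).index = e * (1 + n * p) := by
  have hle : centralizer (P : Set G) ≤ normalizer (P : Set G) := centralizer_le_normalizer _
  rw [← relIndex_mul_index hle, he, ← P.card_eq_index_normalizer, hn]

/-- If `c / d` is an algebraic integer, then `d ∣ c`. -/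
theorem dvd_of_isIntegral {c d : ℕ} {ε : ℤ} (hε : ε = 1 ∨ ε = -1) (hd : d ≠ 0)
    (h : IsIntegral ℤ ((c : ℂ) * ε / d)) : d ∣ c := by
  have h1 : ((c : ℂ) * ε / d) = (((c : ℚ) * ε / d : ℚ) : ℂ) := by push_cast; rfl
  rw [h1] at h
  have h2 : IsIntegral ℤ ((c : ℚ) * ε / d : ℚ) :=
    (isIntegral_algebraMap_iff (R := ℤ) (A := ℚ) (B := ℂ) (algebraMap ℚ ℂ).injective).1 h
  obtain ⟨z, hz⟩ := IsIntegrallyClosed.isIntegral_iff.1 h2
  have hd' : (d : ℚ) ≠ 0 := by exact_mod_cast hd
  rw [eq_div_iff hd'] at hz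
  have h3 : z * d = c * ε := by
    have : ((z : ℚ) * d) = c * ε := hz
    exact_mod_cast this
  have h4 : (d : ℤ) ∣ c := by
    rcases hε with h5 | h5 <;> rw [h5] at h3
    · exact ⟨z, by linarith⟩
    · exact ⟨-z, by linarith⟩
  exact_mod_cast h4

theorem eq_of_normal {K : Subgroup G} (hK : K.Normal) (hK1 : K ≠ ⊥)
    (hcore : ∀ N : Subgroup G, N.Normal → (Nat.card N).Coprime p → N = ⊥)
    (P : Sylow p G) (hP : Nat.card P = p) : (P : Subgroup G) ≤ K := by
  have h1 : p ∣ Nat.card K := by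
    by_contra h
    exact hK1 (hcore K hK ((Nat.Prime.coprime_iff_not_dvd hp.out).2 h).symm)
  obtain ⟨x, hx⟩ := exists_prime_orderOf_dvd_card' (G := K) p h1
  have hx' : orderOf (x : G) = p := by rw [Subgroup.orderOf_coe, hx]
  have hpg : IsPGroup p (zpowers (x : G)) := by
    apply IsPGroup.of_card (n := 1)
    rw [Nat.card_zpowers, hx', pow_one]
  obtain ⟨Q, hQ⟩ := hpg.exists_le_sylow
  have hQP : Nat.card Q = p := (Nat.card_congr (Sylow.equiv Q P).toEquiv).trans hP
  have hQ' : zpowers (x : G) = (Q : Subgroup G) := by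
    apply Subgroup.eq_of_le_of_card_ge hQ
    rw [Nat.card_zpowers, hx']
    exact hQP.le
  have hQK : (Q : Subgroup G) ≤ K := by
    rw [← hQ', zpowers_le]
    exact x.2
  obtain ⟨g, hg⟩ := MulAction.exists_smul_eq G Q P
  intro y hy
  rw [← hg] at hy
  rw [Sylow.coe_subgroup_smul, Subgroup.mem_smul_pointwise_iff_exists] at hy
  obtain ⟨z, hz, rfl⟩ := hy
  exact hK.conj_mem z (hQK hz) g

theorem exists_ne_one (P : Sylow p G) (hP : Nat.card P = p) : ∃ x ∈ (P : Subgroup G), x ≠ 1 := by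
  have : Nontrivial P := by
    rw [← Finite.one_lt_card_iff_nontrivial, show Nat.card P = p from hP]
    exact hp.out.one_lt
  obtain ⟨x, hx⟩ := exists_ne (1 : P)
  exact ⟨x, x.2, fun h => hx (Subtype.ext h)⟩

theorem exists_regular (P : Sylow p G) (hP : Nat.card P = p)
    (hne : centralizer (P : Set G) ≠ (P : Subgroup G)) :
    ∃ y ∈ centralizer (P : Set G), y ≠ 1 ∧ ¬ p ∣ orderOf y := by
  obtain ⟨x, hx, hx1⟩ := exists_ne_one P hP
  obtain ⟨K, -, hK2, -, hK4⟩ := Cfsg.Agent.Blocks.CyclicOrtho.exists_complement P hP hx hx1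
  have hc := Cfsg.Agent.Blocks.CyclicOrtho.centralizer_eq P hP hx hx1
  by_cases hK : K = ⊥
  · exfalso
    rw [hK, index_bot] at hK2
    rw [hc] at hK2
    apply hne
    symm
    have : IsCyclic (P : Subgroup G) := isCyclic_of_prime_card hP
    have : IsMulCommutative (P : Subgroup G) := inferInstance
    apply Subgroup.eq_of_le_of_card_ge (Subgroup.le_centralizer (P : Subgroup G))
    rw [hK2]
    exact hP.ge
  · obtain ⟨k, hk1⟩ := Subgroup.ne_bot_iff_exists_ne_one.1 hK
    obtain ⟨k, hk⟩ := k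
    replace hk1 : k ≠ 1 := fun h => hk1 (Subtype.ext h)
    refine ⟨((k : centralizer ({x} : Set G)) : G), ?_, ?_, ?_⟩
    · show _ ∈ centralizer ((P : Subgroup G) : Set G)
      rw [← hc]; exact (k : centralizer ({x} : Set G)).2
    · exact fun h => hk1 (Subtype.ext h)
    · rw [Subgroup.orderOf_coe]
      exact (hK4 _).1 hk

theorem noFix (hcore : ∀ N : Subgroup G, N.Normal → (Nat.card N).Coprime p → N = ⊥)
    {M : Ideal AlgInt} (hM : IsPModular p M) (P : Sylow p G) (hP : Nat.card P = p)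
    {y : G} (hy : y ∈ centralizer (P : Set G)) (hy1 : y ≠ 1) (hyp : ¬ p ∣ orderOf y)
    {χ : IrrCharacter G} (hχ : χ ∈ principalBlock M G) [Fintype P] :
    ∑ x : P, (χ : G → ℂ) x ≠ 0 := by
  intro h0
  have h1 := Cfsg.Agent.SmallSimple.TheoremBCor.apply_eq_of_sum_eq_zero hM P hP hχ h0 hy hyp
  obtain ⟨K, hK, hKm⟩ := Cfsg.Agent.H674.Codegree.exists_kernel (isIrr_isCharacter χ.2)
  have hyK : y ∈ K := (hKm y).2 h1
  have hK1 : K ≠ ⊥ := by
    rintro rfl
    exact hy1 (Subgroup.mem_bot.1 hyK)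
  have hPK := eq_of_normal hK hK1 hcore P hP
  have h2 : ∑ x : P, (χ : G → ℂ) x = ∑ _x : P, (χ : G → ℂ) 1 :=
    Finset.sum_congr rfl fun x _ => (hKm x).1 (hPK x.2)
  rw [h2, Finset.sum_const, Finset.card_univ, nsmul_eq_mul, mul_eq_zero, deg_spec] at h0
  rcases h0 with h0 | h0
  · have : (Fintype.card P : ℂ) ≠ 0 := by
      exact_mod_cast Fintype.card_ne_zero
    exact this h0
  · have := deg_pos χ
    have h3 : deg χ = 0 := by exact_mod_cast h0
    omega

omit hp in
/-- Degrees `≡ -1 (mod p)`. -/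
theorem deg_neg' {n e t d : ℕ} (hp2 : 2 ≤ p) (hn : NoForm p n)
    (het : e * t = p - 1)
    (hd : (d + 1) % p = 0) (hdvd : d ∣ e * (1 + n * p)) :
    d = p - 1 ∨ d = e * (1 + n * p) := by
  obtain ⟨s, hs⟩ := hdvd
  have hprod : d * (s * t) = (p - 1) * (1 + n * p) := by
    rw [← mul_assoc, ← hs, ← het]; ring
  have hmod : (s * t) % p = 1 := by
    apply mod_of_mul hp2 hd
    rw [hprod]
    exact prod_mod hp2
  rcases master (D := s * t) (s := d) hp2 hn hmod (by rw [mul_comm, hprod]) with h | h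
  · right
    have hs1 : s = 1 := Nat.eq_one_of_mul_eq_one_right h
    rw [hs1, mul_one] at hs
    exact hs.symm
  · left
    rw [h] at hprod
    have h1 : 0 < 1 + n * p := by positivity
    exact Nat.eq_of_mul_eq_mul_right h1 hprod

/-- Main lemma: the Sylow `p`-subgroups are self-centralizing. -/
theorem cent_eq (hperf : commutator G = ⊤)
    (hcore : ∀ N : Subgroup G, N.Normal → (Nat.card N).Coprime p → N = ⊥)
    (P : Sylow p G) (hP : Nat.card P = p) {n : ℕ} (hn : Nat.card (Sylow p G) = 1 + n * p)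
    (hF : NoForm p n) : centralizer (P : Set G) = (P : Subgroup G) := by
  classical
  by_contra hne
  have hp2 := hp.out.two_le
  have hperf' : ∀ f : G →* ℂˣ, f = 1 := by
    intro f
    have h1 := Abelianization.commutator_subset_ker f
    rw [hperf] at h1
    ext g
    have := h1 (mem_top g)
    rw [MonoidHom.mem_ker] at this
    rw [this]
    rfl
  obtain ⟨y, hy, hy1, hyp⟩ := exists_regular P hP hne
  obtain ⟨M, hM⟩ := Blocks.ExistsModular.exists_isPModular hp.out
  obtain ⟨e, he⟩ : ∃ e, (centralizer (P : Set G)).relIndex (normalizer (P : Set G)) = e :=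
    ⟨_, rfl⟩
  obtain ⟨t, ht⟩ : ∃ t, e * t = p - 1 := by
    have h := Cfsg.Agent.Blocks.CyclicClasses.card_cls P hP
    have he' : (centralizer ((P : Subgroup G) : Set G)).relIndex
      (normalizer ((P : Subgroup G) : Set G)) = e := he
    rw [he'] at h
    exact ⟨_, by rw [mul_comm]; exact h⟩
  have he2 : 2 ≤ e := by
    by_contra h
    have he0 : e ≠ 0 := by
      intro h0
      rw [h0, zero_mul] at ht
      omega
    have he1 : e = 1 := by omega
    have h1 : normalizer (P : Set G) ≤ centralizer (P : Set G) := by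
      rw [← Subgroup.relIndex_eq_one, he, he1]
    exact not_le hperf P hP h1
  have htpos : 0 < t := by
    rcases Nat.eq_zero_or_pos t with h | h
    · rw [h, mul_zero] at ht; omega
    · exact h
  have hep : e ≤ p - 1 := by
    rw [← ht]; exact Nat.le_mul_of_pos_right _ htpos
  have hpne : p ≠ 2 := by
    rintro rfl
    omega
  have hn1 : 1 ≤ n := by
    by_contra h
    have hn0 : n = 0 := by omega
    rw [hn0, zero_mul, add_zero, P.card_eq_index_normalizer, Subgroup.index_eq_one] at hn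
    exact not_normal hperf P hP hn
  have hidx := index_cent P he hn
  obtain ⟨NE, X, ε, d, S, hB, h1, h2, h3, h4, h5, ⟨χ₁, h6, h6', h6''⟩, h7, h8, h9, h10⟩ :=
    Cfsg.Agent.SmallSimple.TheoremB.theoremB p hpne M hM P hP e t he ht
  have htriv : χ₁ = triv G := Subtype.ext h6'
  rw [htriv] at h6 h6''
  have hone : ¬ p ∣ orderOf (1 : G) := by
    rw [orderOf_one]; exact fun h => hp.out.one_lt.ne' (Nat.dvd_one.1 h)
  have := Fintype.ofFinite P
  obtain ⟨x₀, hx₀, hx₀1⟩ := exists_ne_one P hP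
  have hcx : centralizer ({x₀} : Set G) = centralizer (P : Set G) :=
    Cfsg.Agent.Blocks.CyclicOrtho.centralizer_eq P hP hx₀ hx₀1
  -- values
  have hNEv : ∀ χ ∈ NE, ∀ x ∈ P, x ≠ 1 → (χ : G → ℂ) x = ε χ := by
    intro χ hχ x hx hx1
    have := h7 χ hχ x hx hx1 1 (one_mem _) hone
    rwa [mul_one] at this
  have hXv : ∀ Θ ∈ X, ∀ x : P, x ≠ 1 → (Θ : G → ℂ) x = d * ∑ l ∈ S Θ, ((l x : ℂˣ) : ℂ) := by
    intro Θ hΘ x hx
    have := (h8 Θ hΘ).2.2 x hx 1 (one_mem _) hone
    rwa [mul_one] at this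
  -- integrality
  have hNEdvd : ∀ χ ∈ NE, deg χ ∣ e * (1 + n * p) := by
    intro χ hχ
    have hi := Cfsg.Agent.Blocks.Central.isIntegral_centralChar χ.2 x₀
    unfold centralChar at hi
    rw [hcx, hidx, hNEv χ hχ x₀ hx₀ hx₀1, deg_spec] at hi
    refine dvd_of_isIntegral (h4 χ hχ) (deg_pos χ).ne' ?_
    exact hi
  -- equal degrees
  have hrel1 : ∀ Θ ∈ X, ∑ χ ∈ NE, ε χ * (deg χ : ℤ) = d * deg Θ := by
    intro Θ hΘ
    have := h10 Θ hΘ 1 hone
    simp only [deg_spec] at this
    exact_mod_cast this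
  have hXdvd : ∀ Θ ∈ X, deg Θ ∣ e * (1 + n * p) := by
    intro Θ₀ hΘ₀
    have := PrimeDual.finite_dual (Q := P) hp.out hP
    have := Fintype.ofFinite (P →* ℂˣ)
    have hdeg : ∀ Θ ∈ X, deg Θ = deg Θ₀ := by
      intro Θ hΘ
      have e1 := (hrel1 Θ hΘ).symm.trans (hrel1 Θ₀ hΘ₀)
      rcases h5 with h5 | h5 <;> rw [h5] at e1 <;> omega
    -- the union of the sets `S Θ`
    have hU : X.biUnion S = Finset.univ.erase 1 := by
      apply Finset.eq_of_subset_of_card_le
      · intro l hl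
        rw [Finset.mem_biUnion] at hl
        obtain ⟨Θ, hΘ, hl⟩ := hl
        rw [Finset.mem_erase]
        refine ⟨?_, Finset.mem_univ _⟩
        rintro rfl
        exact (h8 Θ hΘ).2.1 hl
      · rw [Finset.card_erase_of_mem (Finset.mem_univ _), Finset.card_univ,
          ← Nat.card_eq_fintype_card, PrimeDual.card_dual (Q := P) hp.out hP,
          Finset.card_biUnion (fun Θ hΘ Θ' hΘ' hne => h9 Θ hΘ Θ' hΘ' hne),
          Finset.sum_congr rfl (fun Θ hΘ => (h8 Θ hΘ).1), Finset.sum_const, h3, smul_eq_mul,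
          mul_comm, ht]
    have hsum : ∑ Θ ∈ X, (Θ : G → ℂ) x₀ = -d := by
      have e1 : ∑ Θ ∈ X, (Θ : G → ℂ) x₀ =
          ∑ Θ ∈ X, d * ∑ l ∈ S Θ, ((l ⟨x₀, hx₀⟩ : ℂˣ) : ℂ) := by
        refine Finset.sum_congr rfl fun Θ hΘ => ?_
        exact hXv Θ hΘ ⟨x₀, hx₀⟩ (fun h => hx₀1 (congrArg Subtype.val h))
      rw [e1, ← Finset.mul_sum, ← Finset.sum_biUnion
        (fun Θ hΘ Θ' hΘ' hne => h9 Θ hΘ Θ' hΘ' hne), hU]
      have e2 := PrimeDual.sum_dual_eq_zero (Q := P) hp.out hP (x := ⟨x₀, hx₀⟩)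
        (fun h => hx₀1 (congrArg Subtype.val h))
      rw [← Finset.add_sum_erase _ _ (Finset.mem_univ (1 : P →* ℂˣ))] at e2
      have e3 : ((((1 : P →* ℂˣ) ⟨x₀, hx₀⟩ : ℂˣ)) : ℂ) = 1 := by simp
      rw [e3] at e2
      linear_combination (d : ℂ) * e2
    have hi : IsIntegral ℤ (∑ Θ ∈ X, centralChar (Θ : G → ℂ) x₀) :=
      IsIntegral.sum _ fun Θ _ => Cfsg.Agent.Blocks.Central.isIntegral_centralChar Θ.2 x₀
    have e4 : ∑ Θ ∈ X, centralChar (Θ : G → ℂ) x₀ =
        ((e * (1 + n * p) : ℕ) : ℂ) * (-d : ℤ) / deg Θ₀ := by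
      have e5 : ∀ Θ ∈ X, centralChar (Θ : G → ℂ) x₀ =
          ((e * (1 + n * p) : ℕ) : ℂ) / deg Θ₀ * (Θ : G → ℂ) x₀ := by
        intro Θ hΘ
        unfold centralChar
        rw [hcx, hidx, deg_spec, hdeg Θ hΘ]
        ring
      rw [Finset.sum_congr rfl e5, ← Finset.mul_sum, hsum]
      push_cast
      ring
    rw [e4] at hi
    exact dvd_of_isIntegral (by rcases h5 with h | h <;> rw [h] <;> simp) (deg_pos Θ₀).ne' hi
  -- the nonprincipal nonexceptional characters
  have hbig : ∀ χ ∈ NE, χ ≠ triv G → 1 + n * p ∣ deg χ := by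
    intro χ hχ hχ1
    obtain ⟨m, hm⟩ := Cfsg.Agent.SmallSimple.TheoremBCor.degree_nonexc (P := (P : Subgroup G)) hP
      (isIrr_isCharacter χ.2) (hNEv χ hχ)
    rw [deg_spec] at hm
    have hm' : (deg χ : ℤ) = ε χ + p * ((m : ℤ) - ε χ) := by exact_mod_cast hm
    rcases h4 χ hχ with hε | hε
    · have hmod : deg χ % p = 1 := by
        have e1 : (deg χ : ℤ) % p = 1 := by
          rw [hm', hε, Int.add_mul_emod_self_left]
          exact Int.emod_eq_of_lt (by norm_num) (by exact_mod_cast hp.out.one_lt)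
        exact_mod_cast e1
      rcases Arith.deg_pos hp2 hF ht hmod (hNEdvd χ hχ) with h | h
      · exact absurd (eq_triv_of_deg hperf' χ h) hχ1
      · rw [h]
    · have hmod : (deg χ + 1) % p = 0 := by
        have e1 : ((deg χ + 1 : ℕ) : ℤ) = p * (m + 1) := by
          push_cast
          rw [hm', hε]; ring
        have e2 : deg χ + 1 = p * (m + 1) := by exact_mod_cast e1
        rw [e2]; exact Nat.mul_mod_right _ _
      rcases deg_neg' hp2 hF ht hmod (hNEdvd χ hχ) with h | h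
      · exfalso
        refine noFix hcore hM P hP hy hy1 hyp ((hB χ).2 (Or.inl hχ)) ?_
        have e1 := Cfsg.Agent.SmallSimple.TheoremBCor.sum_const_off
          (f := fun x : P => (χ : G → ℂ) x) (c := (ε χ : ℂ))
          (fun x hx => hNEv χ hχ x x.2 (fun h' => hx (Subtype.ext h')))
        have e2 : ((χ : G → ℂ) ((1 : P) : G)) = deg χ := by
          rw [OneMemClass.coe_one, deg_spec]
        have e3 : (Nat.card (P : Subgroup G) : ℂ) = p := by
          rw [show Nat.card (P : Subgroup G) = p from hP]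
        have e4 : (χ : G → ℂ) ((1 : P) : G) + ((Nat.card (P : Subgroup G) : ℂ) - 1) * (ε χ : ℂ) =
            0 := by
          rw [e2, e3, hε, h, Nat.cast_sub (by omega)]
          push_cast
          ring
        exact e1.trans e4
      · rw [h]
        exact dvd_mul_left _ _
  -- conclusion
  obtain ⟨Θ, hΘ⟩ : X.Nonempty := by rw [← Finset.card_pos, h3]; exact htpos
  have hq : ((1 + n * p : ℕ) : ℤ) ∣ d * deg Θ - 1 := by
    rw [← hrel1 Θ hΘ, ← Finset.add_sum_erase _ _ h6, h6'', deg_triv]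
    have : (1 : ℤ) * ((1 : ℕ) : ℤ) + ∑ χ ∈ NE.erase (triv G), ε χ * (deg χ : ℤ) - 1 =
        ∑ χ ∈ NE.erase (triv G), ε χ * (deg χ : ℤ) := by push_cast; ring
    rw [this]
    refine Finset.dvd_sum fun χ hχ => ?_
    rw [Finset.mem_erase] at hχ
    exact Dvd.dvd.mul_left (Int.natCast_dvd_natCast.2 (hbig χ hχ.2 hχ.1)) _
  have hcop : Nat.Coprime (deg Θ) (1 + n * p) := by
    rw [← Nat.isCoprime_iff_coprime]
    obtain ⟨c, hc⟩ := hq
    exact ⟨d, -c, by linear_combination hc⟩
  have hle : deg Θ ∣ e := hcop.dvd_of_dvd_mul_right (hXdvd Θ hΘ)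
  have hle' := Nat.le_of_dvd (by omega) hle
  have hlt : p < 1 + n * p := by
    have : p ≤ n * p := Nat.le_mul_of_pos_left _ hn1
    omega
  have hz : d * deg Θ - 1 = 0 := by
    apply Int.eq_zero_of_abs_lt_dvd hq
    have h11 : |d * (deg Θ : ℤ) - 1| ≤ deg Θ + 1 := by
      rcases h5 with h | h <;> rw [h, abs_le] <;> constructor <;> linarith [deg_pos Θ]
    have h12 : (deg Θ : ℤ) + 1 ≤ p := by
      have : deg Θ + 1 ≤ p := by omega
      exact_mod_cast this
    have h13 : (p : ℤ) < ((1 + n * p : ℕ) : ℤ) := by exact_mod_cast hlt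
    linarith
  have hdeg1 : deg Θ = 1 := by
    rcases h5 with h | h <;> rw [h] at hz <;> omega
  have := eq_triv_of_deg hperf' Θ hdeg1
  rw [this] at hΘ
  exact Finset.disjoint_left.1 h1 h6 hΘ

end Cfsg.Agent.H607.BP.NonSelf
end
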